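import Cfsg.Agent.Mrg.Omega.S5.Def
import Cfsg.Agent.MinSimple.Geo
import Cfsg.Agent.Mrg.Omega.Assembly

section


/-!
# OMEGA N6 / LeafF4 (O4), #17439 (helper300), (4), (5)

`SixF V L ε W`: `Base`, (H2) `U_ij ≤ O₂(N_kl)`, `[O₂(N_ij), W_ij] ≤ ⟨r_ij⟩`, `[O₂(N_ij), U_ij] = 1`.
`GG V ε = N_G(V Σ)`.  For `S ≤ L` a Sylow 2-subgroup centralising a point, in characteristic 2 type:
`uu_le_O`: `U_ij ≤ O₂(GG) ≤ O₂(N_kl)`; `uu_le_BB`: `U_ij ≤ V Σ`.
-/

set_option autoImplicit false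

namespace Cfsg.Agent.Omega.NSix.Free

open Subgroup Cfsg
open Cfsg.Agent.ZN (o2)
open Cfsg.Agent.MinSimple.VModule (o2_le o2_isPGroup le_normalizer_o2 le_o2)
open Cfsg.Agent.MinSimple.Geo (inf_centralizer_o2_le)
open Cfsg.Agent.Omega.S5.Def Cfsg.Agent.Omega.NSix.Base Cfsg.Agent.Omega.NSix.Basic
open Cfsg.Agent.Omega.NSix.One
open Cfsg.Agent.Omega.NSix.End (uu_cenV uu_acts cenV_NN)
open Cfsg.Agent.Omega.NSix.End.Six (exists_off norm_o2 norm_cen uu_norm)

universe u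

variable {G : Type u} [Group G] {n : ℕ} {V L : Subgroup G} {ε : (Fin n → ZMod 2) → G}
  {W : Fin n → Fin n → Subgroup G}

/-- the situation (H1), (H2), without minimality of `V` -/
structure SixF (V L : Subgroup G) (ε : (Fin n → ZMod 2) → G) (W : Fin n → Fin n → Subgroup G) :
    Prop extends Base V L ε W where
  hq : ∀ i j k l, i ≠ j → k ≠ l → i ≠ k → i ≠ l → j ≠ k → j ≠ l → UU ε i j ≤ o2 (NN ε k l)
  qc : ∀ i j, i ≠ j → ∀ x ∈ o2 (NN ε i j), ∀ w ∈ W i j,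
    w * x * w⁻¹ = x ∨ w * x * w⁻¹ = x * rr ε i j
  uq : ∀ i j, i ≠ j → ∀ u ∈ UU ε i j, ∀ q ∈ o2 (NN ε i j), u * q = q * u

/-- `Γ = N_G(V Σ)` -/
def GG (V : Subgroup G) (ε : (Fin n → ZMod 2) → G) : Subgroup G := normalizer (BB V ε : Set G)

theorem uu_two (b : Base V L ε W) {i j : Fin n} (hij : i ≠ j) : IsPGroup 2 (UU ε i j) := by
  intro u
  refine ⟨1, ?_⟩
  rw [pow_one, pow_two]
  exact Subtype.ext (uu_sq b hij u.2)

theorem uu_le_NN (b : Base V L ε W) {i j : Fin n} (hij : i ≠ j) (k l : Fin n) :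
    UU ε i j ≤ NN ε k l := fun _ hu => cenV_NN b k l (uu_cenV b hij hu)

theorem bb_two (b : Base V L ε W) (hn : 2 ≤ n) : IsPGroup 2 (BB V ε) := by
  intro u
  refine ⟨1, ?_⟩
  rw [pow_one, pow_two]
  exact Subtype.ext (bb_sq b hn u.2)

theorem bb_ne (b : Base V L ε W) (hn : 3 ≤ n) : BB V ε ≠ ⊥ := by
  intro h
  have h1 : zz ε ⟨0, by omega⟩ ∈ BB V ε := v_le_BB (zz_mem b.ev _)
  rw [h, mem_bot] at h1
  exact zz_ne_one b.ev hn _ h1

theorem gg_local (b : Base V L ε W) (hn : 3 ≤ n) : IsTwoLocal (GG V ε) :=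
  ⟨BB V ε, bb_two b (by omega), bb_ne b hn, rfl⟩

theorem l_le_GG [Finite G] (b : Base V L ε W) : L ≤ GG V ε := by
  intro g hg
  obtain ⟨σ, hσ⟩ := b.ev.perm g hg
  refine mem_normalizer_of_le fun x hx => ?_
  have h1 : BB V ε ≤ (BB V ε).comap (MulAut.conj g).toMonoidHom := by
    refine sup_le ?_ ?_
    · intro v hv
      exact v_le_BB ((mem_normalizer_iff.mp (b.ev.le_normalizer hg) v).mp hv)
    · intro s hs
      exact sg_le_BB (sg_conj hσ hs)
  exact h1 hx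

section

variable [Finite G] (hG : IsCharacteristicTwoType G) (b : SixF V L ε W) (hodd : Odd n) (hn : 7 ≤ n)
  (S : Sylow 2 G) (hS : (S : Subgroup G) ≤ L) {o : Fin n}
  (ho : ∀ s ∈ (S : Subgroup G), s * zz ε o = zz ε o * s)

include b hS ho in
/-- `O₂(Γ)` centralises `V` -/
theorem o_cenV : o2 (GG V ε) ≤ centralizer (V : Set G) := by
  have hLG := l_le_GG b.toBase
  have hOS : o2 (GG V ε) ≤ (S : Subgroup G) :=
    MinPar.le_of_le_normalizer S (o2_isPGroup _) ((hS.trans hLG).trans (le_normalizer_o2 _))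
  intro q hq
  have hz : ∀ m, zz ε m ∈ centralizer ({q} : Set G) := by
    intro m
    rw [mem_centralizer_singleton_iff]
    obtain ⟨g, hg, hgs⟩ := b.ev.full (Equiv.swap o m)
    have h1 : g⁻¹ * q * g⁻¹⁻¹ ∈ o2 (GG V ε) :=
      (mem_normalizer_iff.mp (le_normalizer_o2 _ (inv_mem (hLG hg))) q).mp hq
    rw [inv_inv] at h1
    have h2 := ho _ (hOS h1)
    have h3 := zz_conj hgs o
    rw [Equiv.swap_apply_left] at h3
    rw [← h3]
    calc g * zz ε o * g⁻¹ * q = g * (zz ε o * (g⁻¹ * q * g)) * g⁻¹ := by group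
      _ = g * ((g⁻¹ * q * g) * zz ε o) * g⁻¹ := by rw [h2]
      _ = _ := by group
  rw [mem_centralizer_iff]
  intro v hv
  have h1 := v_le_of_zz b.ev hz hv
  rw [mem_centralizer_singleton_iff] at h1
  exact h1

include b hodd hn hS ho in
/-- `O₂(Γ)` centralises `U_ij` -/
theorem o_cenU {i j : Fin n} (hij : i ≠ j) {q u : G} (hq : q ∈ o2 (GG V ε)) (hu : u ∈ UU ε i j) :
    u * q = q * u := by
  have hb := b.toBase
  have hON : ∀ k l, o2 (GG V ε) ≤ NN ε k l := fun k l x hx =>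
    cenV_NN hb k l (o_cenV b S hS ho hx)
  have hDG : DD ε W i j ≤ GG V ε := dd_le hb hodd hn hij
  have hqN := hON i j hq
  -- `[O, D'] ≤ O₂(N)`
  have hcomm : ∀ x ∈ DD ε W i j, q * x * q⁻¹ * x⁻¹ ∈ o2 (NN ε i j) := by
    intro x hx
    have h1 : q * x * q⁻¹ * x⁻¹ ∈ o2 (GG V ε) ⊓ DD ε W i j := by
      refine Subgroup.mem_inf.mpr ⟨?_, ?_⟩
      · have h2 : x * q⁻¹ * x⁻¹ ∈ o2 (GG V ε) :=
          (mem_normalizer_iff.mp (le_normalizer_o2 _ (hDG hx)) _).mp (inv_mem hq)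
        have h3 : q * x * q⁻¹ * x⁻¹ = q * (x * q⁻¹ * x⁻¹) := by group
        rw [h3]
        exact mul_mem hq h2
      · exact mul_mem ((mem_normalizer_iff.mp (dd_normal hqN) x).mp hx) (inv_mem hx)
    have h2 : o2 (GG V ε) ⊓ DD ε W i j ≤ o2 (DD ε W i j) := by
      refine le_o2 inf_le_right ((o2_isPGroup _).to_le inf_le_left) ?_
      intro g hg
      refine mem_normalizer_of_le fun y hy => ?_
      obtain ⟨h3, h4⟩ := Subgroup.mem_inf.mp hy
      exact Subgroup.mem_inf.mpr ⟨(mem_normalizer_iff.mp (le_normalizer_o2 _ (hDG hg)) y).mp h3,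
        mul_mem (mul_mem hg h4) (inv_mem hg)⟩
    have h3 : o2 (DD ε W i j) ≤ o2 (NN ε i j) :=
      le_o2 ((o2_le _).trans (dd_le_NN hb i j)) (o2_isPGroup _) (dd_normal.trans (norm_o2 _))
    exact h3 (h2 h1)
  -- `O` centralises `K`
  have hK : ∀ k l, k ≠ l → k ≠ i → k ≠ j → l ≠ i → l ≠ j → ∀ g ∈ NN ε i j,
      q * (g * rr ε k l * g⁻¹) * q⁻¹ = g * rr ε k l * g⁻¹ := by
    intro k l hkl ki kj li lj g hg
    set c := g * rr ε k l * g⁻¹ with hc
    have wit : Wit ε i j c g k l := ⟨hg, hkl, ki, kj, li, lj, hc⟩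
    obtain ⟨w, hw, hws⟩ := b.mov k l hkl
    obtain ⟨m, m', -, ⟨mi, mj, mk, ml⟩, -⟩ := exists_off (by omega) i j k l
    set x := g * w * g⁻¹ with hx
    have hxc : Wc ε W i j c x := by
      rw [wc_iff hb wit]
      have : g⁻¹ * x * g = w := by rw [hx]; group
      rwa [this]
    have hcne : c ≠ 1 := kk_ne hb (by omega) (wc_kk hxc)
    set u0 := g * rr ε l m * g⁻¹ with hu0
    have hu0U : u0 ∈ UU ε i j := UU_normal hg (rr_mem_UU li lj mi mj)
    have hmove : x * u0 * x⁻¹ ≠ u0 := by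
      intro h1
      have h2 : w * rr ε l m * w⁻¹ = rr ε l m := by
        calc w * rr ε l m * w⁻¹ = g⁻¹ * (x * u0 * x⁻¹) * g := by rw [hx, hu0]; group
          _ = rr ε l m := by rw [h1, hu0]; group
      rw [rr_conj hws, Equiv.swap_apply_right, Equiv.swap_apply_of_ne_of_ne mk ml] at h2
      have h3 : rr ε k l = 1 := by
        have h4 := rr_add b.ev k m l
        rw [rr_symm b.ev m l, h2, rr_sq b.ev] at h4
        exact h4.symm
      exact rr_ne_one b.ev (by omega) hkl h3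
    have hmove2 := (wc_act hb hij hxc hu0U).resolve_left hmove
    set u1 := q * u0 * q⁻¹ with hu1
    have hu1U : u1 ∈ UU ε i j := UU_normal hqN hu0U
    have hxN := wc_NN hb hxc
    set y := q * x * q⁻¹ * x⁻¹ with hy
    have hyQ : y ∈ o2 (NN ε i j) := hcomm x (wc_le_DD hxc)
    have h1 : x * u1 * x⁻¹ = u1 * (q * c * q⁻¹) := by
      have h2 : (x * u1 * x⁻¹) * y = y * (x * u1 * x⁻¹) :=
        b.uq i j hij _ (UU_normal hxN hu1U) y hyQ
      calc x * u1 * x⁻¹ = (x * u1 * x⁻¹) * y * y⁻¹ := by group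
        _ = y * (x * u1 * x⁻¹) * y⁻¹ := by rw [h2]
        _ = q * (x * u0 * x⁻¹) * q⁻¹ := by rw [hy, hu1]; group
        _ = _ := by rw [hmove2, hu1]; group
    rcases wc_act hb hij hxc hu1U with h2 | h2
    · rw [h2] at h1
      have h3 : q * c * q⁻¹ = 1 := (mul_eq_left.mp h1.symm)
      exfalso
      apply hcne
      calc c = q⁻¹ * (q * c * q⁻¹) * q := by group
        _ = 1 := by rw [h3]; group
    · rw [h2] at h1
      exact (mul_left_cancel h1).symm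
  -- `U_ij`
  have hU : UU ε i j ≤ centralizer ({q} : Set G) := by
    unfold UU
    rw [closure_le]
    rintro x ⟨g, hg, m, mi, mj, rfl⟩
    have h1 : zz ε m ∈ (centralizer ({q} : Set G)).comap (MulAut.conj g).toMonoidHom := by
      refine zz_mem_of_rr b.ev hodd (by omega) hij ?_ ?_ mi mj
      · change g * rr ε i j * g⁻¹ ∈ centralizer ({q} : Set G)
        rw [mem_NN'.mp hg, mem_centralizer_singleton_iff]
        exact (mem_NN.mp hqN).symm
      · intro a c hac ai aj ci cj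
        change g * rr ε a c * g⁻¹ ∈ centralizer ({q} : Set G)
        rw [mem_centralizer_singleton_iff]
        have h2 := hK a c hac ai aj ci cj g hg
        rw [mul_inv_eq_iff_eq_mul] at h2
        exact h2.symm
    exact h1
  have h1 := hU hu
  rw [mem_centralizer_singleton_iff] at h1
  exact h1

/-- `C = C_G(U_ij) ∩ N_ij` -/
def CC (ε : (Fin n → ZMod 2) → G) (i j : Fin n) : Subgroup G :=
  NN ε i j ⊓ centralizer (UU ε i j : Set G)

omit [Finite G] in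
theorem cc_normal (i j : Fin n) : NN ε i j ≤ normalizer (CC ε i j : Set G) := by
  intro g hg
  have h1 := norm_cen _ (uu_norm (ε := ε) i j hg)
  rw [mem_normalizer_iff] at h1 ⊢
  intro x
  constructor
  · intro h
    obtain ⟨h2, h3⟩ := Subgroup.mem_inf.mp h
    exact Subgroup.mem_inf.mpr ⟨mul_mem (mul_mem hg h2) (inv_mem hg), (h1 x).mp h3⟩
  · intro h
    obtain ⟨h2, h3⟩ := Subgroup.mem_inf.mp h
    refine Subgroup.mem_inf.mpr ⟨?_, (h1 x).mpr h3⟩
    have h4 := mul_mem (mul_mem (inv_mem hg) h2) hg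
    have h5 : g⁻¹ * (g * x * g⁻¹) * g = x := by group
    rwa [h5] at h4

include b hodd hn in
theorem cc_le_GG {i j : Fin n} (hij : i ≠ j) : CC ε i j ≤ GG V ε := by
  intro g hg
  obtain ⟨h1, h2⟩ := Subgroup.mem_inf.mp hg
  obtain ⟨k, l, hkl, ⟨ki, kj, -, -⟩, li, lj, -, -⟩ := exists_off (by omega) i j i j
  refine two_norm b.toBase hodd hn hij hkl ki kj li lj h1 ?_
  rw [mem_NN]
  exact (mem_centralizer_iff.mp h2 _ (rr_mem_UU ki kj li lj)).symm

include b hodd hn hS ho in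
/-- `O₂(Γ) ≤ O₂(N_ij)` -/
theorem o_le {i j : Fin n} (hij : i ≠ j) : o2 (GG V ε) ≤ o2 (NN ε i j) := by
  have hb := b.toBase
  have hOC : o2 (GG V ε) ≤ CC ε i j := by
    intro q hq
    refine Subgroup.mem_inf.mpr ⟨cenV_NN hb i j (o_cenV b S hS ho hq), ?_⟩
    rw [mem_centralizer_iff]
    intro u hu
    exact o_cenU b hodd hn S hS ho hij hq hu
  have h1 : o2 (GG V ε) ≤ o2 (CC ε i j) :=
    le_o2 hOC (o2_isPGroup _) ((cc_le_GG b hodd hn hij).trans (le_normalizer_o2 _))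
  have h2 : o2 (CC ε i j) ≤ o2 (NN ε i j) :=
    le_o2 ((o2_le _).trans inf_le_left) (o2_isPGroup _) ((cc_normal i j).trans (norm_o2 _))
  exact h1.trans h2

include hG b hodd hn hS ho in
/-- `U_ij ≤ O₂(Γ)` -/
theorem uu_le_O {i j : Fin n} (hij : i ≠ j) : UU ε i j ≤ o2 (GG V ε) := by
  have hb := b.toBase
  intro u hu
  refine inf_centralizer_o2_le hG (gg_local hb (by omega)) (Subgroup.mem_inf.mpr ⟨?_, ?_⟩)
  · refine cc_le_GG b hodd hn hij (Subgroup.mem_inf.mpr ⟨uu_le_NN hb hij i j hu, ?_⟩)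
    rw [mem_centralizer_iff]
    intro v hv
    exact uu_comm hb hij hv hu
  · rw [mem_centralizer_iff]
    intro q hq
    exact (o_cenU b hodd hn S hS ho hij hq hu).symm

include hG b hodd hn hS ho in
theorem all_le {i j k l : Fin n} (hij : i ≠ j) (hkl : k ≠ l) : UU ε i j ≤ o2 (NN ε k l) :=
  (uu_le_O hG b hodd hn S hS ho hij).trans (o_le b hodd hn S hS ho hkl)

include hG b hodd hn hS ho in
/-- (5), the exchange -/
theorem exch {i j k : Fin n} (hij : i ≠ j) (hik : i ≠ k) (hjk : j ≠ k) {y : G}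
    (hy : y ∈ UU ε i j) : ∃ v ∈ V, y * v ∈ UU ε k j := by
  obtain ⟨w, hw, hws⟩ := b.mov i k hik
  have h1 := UU_conj hws hy
  rw [Equiv.swap_apply_left, swap_fix hij.symm hjk] at h1
  rcases b.qc i k hik y (all_le hG b hodd hn S hS ho hij hik hy) w hw with h2 | h2
  · rw [h2] at h1
    exact ⟨1, one_mem _, by rwa [mul_one]⟩
  · rw [h2] at h1
    exact ⟨_, rr_mem b.ev i k, h1⟩

include hG b hodd hn hS ho in
theorem move {i j k l : Fin n} (hij : i ≠ j) (hkl : k ≠ l) {y : G} (hy : y ∈ UU ε i j) :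
    ∃ v ∈ V, y * v ∈ UU ε k l := by
  have key : ∀ {i j : Fin n}, i ≠ j → i ≠ l → ∀ {y : G}, y ∈ UU ε i j → i = k →
      ∃ v ∈ V, y * v ∈ UU ε k l := by
    intro i j hij hil y hy hik
    subst hik
    by_cases h1 : j = l
    · subst h1
      exact ⟨1, one_mem _, by rwa [mul_one]⟩
    · rw [UU_symm b.ev] at hy ⊢
      exact exch hG b hodd hn S hS ho hij.symm h1 hil hy
  by_cases h1 : i = k
  · exact key hij (h1 ▸ hkl) hy h1
  by_cases h2 : j = k
  · rw [UU_symm b.ev] at hy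
    exact key hij.symm (h2 ▸ hkl) hy h2
  · obtain ⟨v, hv, h3⟩ := exch hG b hodd hn S hS ho hij h1 h2 hy
    obtain ⟨v', hv', h4⟩ := key (i := k) (j := j) (Ne.symm h2) hkl h3 rfl
    exact ⟨v * v', mul_mem hv hv', by rwa [← mul_assoc]⟩

include hG b hodd hn hS ho in
/-- **(5)**: `U_ij ≤ V Σ` -/
theorem uu_le_BB {i j : Fin n} (hij : i ≠ j) : UU ε i j ≤ BB V ε := by
  intro y hy
  refine good_mem_BB b.toBase hodd hn hij hy fun a c hac => ⟨?_, ?_⟩
  · intro w hw hw1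
    obtain ⟨k, l, hkl, ⟨k1, k2, -, -⟩, l1, l2, -, -⟩ := exists_off (by omega) a c a c
    obtain ⟨v, hv, h1⟩ := move hG b hodd hn S hS ho hij hkl hy
    have h2 := one b.toBase hodd hn hkl hac (Ne.symm k1) (Ne.symm l1) (Ne.symm k2) (Ne.symm l2)
      hw hw1 h1
    have h3 : w * v * w⁻¹ = v := by
      obtain ⟨x, rfl⟩ := b.ev.surj v hv
      exact hw1 x
    have h4 : w * (y * v) * w⁻¹ = (w * y * w⁻¹) * (w * v * w⁻¹) := by group
    rw [h4, h3] at h2
    exact mul_right_cancel h2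
  · intro w hw
    exact b.qc a c hac y (all_le hG b hodd hn S hS ho hij hac hy) w hw

end

end Cfsg.Agent.Omega.NSix.Free

end

section


/-!
# OMEGA N6 / LeafF4 (O4), #17439 / #17532 (helper300), (6)

`nn_le`: `C_G(r_ij) ≤ N_G(V Σ)` for all pairs, `Σ = ⋂ U_p`, in the situation `SixF` ((H1), (H2)); `V Σ` is
elementary abelian.  `conj_comm`: `V` and `V^h` commute for `h ∈ C_G(r_ij)`.  `SixF.false`: there is no T-T pair.
-/

set_option autoImplicit false

namespace Cfsg.Agent.Omega.NSix.Free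

open Subgroup Cfsg
open Cfsg.Agent.ZN (o2)
open Cfsg.Agent.Omega.S5.Def Cfsg.Agent.Omega.NSix.Base Cfsg.Agent.Omega.NSix.Basic
open Cfsg.Agent.Omega.NSix.One
open Cfsg.Agent.Omega.NSix.End.Six (exists_off)

universe u

variable {G : Type u} [Group G] {n : ℕ} {V L : Subgroup G} {ε : (Fin n → ZMod 2) → G}
  {W : Fin n → Fin n → Subgroup G}

/-- an element of `V` constant on `{i, j}` and on the complement -/
theorem two_values (h : EvenSet n V L ε) {i j : Fin n} (hij : i ≠ j) {y : Fin n → ZMod 2}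
    (h1 : y i = y j) (h2 : ∀ a c, a ≠ c → a ≠ i → a ≠ j → c ≠ i → c ≠ j → y a = y c) :
    ε y = 1 ∨ ε y = rr ε i j := by
  by_cases h3 : ∃ m, m ≠ i ∧ m ≠ j
  swap
  · left
    rcases Tv.z2 (y i) with h0 | h0
    · refine (h.ker y).mpr (Or.inl ?_)
      funext m
      by_cases hm : m = i
      · rw [hm, h0]; rfl
      · have hm' : m = j := by
          by_contra hm'
          exact h3 ⟨m, hm, hm'⟩
        rw [hm', ← h1, h0]; rfl
    · refine (h.ker y).mpr (Or.inr ?_)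
      funext m
      by_cases hm : m = i
      · rw [hm, h0]; rfl
      · have hm' : m = j := by
          by_contra hm'
          exact h3 ⟨m, hm, hm'⟩
        rw [hm', ← h1, h0]; rfl
  obtain ⟨m, mi, mj⟩ := h3
  have hF : ∀ a, a ≠ i → a ≠ j → y a = y m := by
    intro a ai aj
    by_cases ham : a = m
    · rw [ham]
    · exact h2 a m ham ai aj mi mj
  have hrr : rr ε i j = ε (Pi.single i 1 + Pi.single j 1) := (h.add _ _).symm
  rw [hrr]
  rcases Tv.z2 (y i) with h0 | h0 <;> rcases Tv.z2 (y m) with h4 | h4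
  · left
    refine (h.ker y).mpr (Or.inl ?_)
    funext a
    by_cases ai : a = i
    · rw [ai, h0]; rfl
    by_cases aj : a = j
    · rw [aj, ← h1, h0]; rfl
    · rw [hF a ai aj, h4]; rfl
  · right
    rw [h.eq_iff]
    right
    funext a
    rw [Pi.add_apply, Pi.add_apply, Pi.one_apply]
    by_cases ai : a = i
    · rw [ai, h0, Pi.single_eq_same, Pi.single_eq_of_ne hij]; decide
    by_cases aj : a = j
    · rw [aj, ← h1, h0, Pi.single_eq_same, Pi.single_eq_of_ne (Ne.symm hij)]; decide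
    · rw [hF a ai aj, h4, Pi.single_eq_of_ne ai, Pi.single_eq_of_ne aj]; decide
  · right
    congr 1
    funext a
    rw [Pi.add_apply]
    by_cases ai : a = i
    · rw [ai, h0, Pi.single_eq_same, Pi.single_eq_of_ne hij]; decide
    by_cases aj : a = j
    · rw [aj, ← h1, h0, Pi.single_eq_same, Pi.single_eq_of_ne (Ne.symm hij)]; decide
    · rw [hF a ai aj, h4, Pi.single_eq_of_ne ai, Pi.single_eq_of_ne aj]; decide
  · left
    refine (h.ker y).mpr (Or.inr ?_)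
    funext a
    by_cases ai : a = i
    · rw [ai, h0]; rfl
    by_cases aj : a = j
    · rw [aj, ← h1, h0]; rfl
    · rw [hF a ai aj, h4]; rfl

/-- every pair is conjugate to `{i, j}` under elements which centralise `Σ` -/
theorem trans_sg (b : Base V L ε W) {i j p q : Fin n} (hij : i ≠ j) (hpq : p ≠ q) :
    ∃ f : G, (∀ s ∈ SG ε, f * s * f⁻¹ = s) ∧ f * rr ε i j * f⁻¹ = rr ε p q := by
  refine spread_abs (P := fun _ => True)
    (Q := fun p q => ∃ f : G, (∀ s ∈ SG ε, f * s * f⁻¹ = s) ∧ f * rr ε i j * f⁻¹ = rr ε p q) ?_ ?_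
    trivial trivial trivial trivial hij hpq ⟨1, fun s _ => by group, by group⟩
  · rintro a c ⟨f, hf, h⟩
    exact ⟨f, hf, by rw [h, rr_symm b.ev]⟩
  · rintro p q a c - - hpq ⟨f, hf, h⟩
    obtain ⟨w, hw, hws⟩ := b.mov p q hpq
    refine ⟨w * f, fun s hs => ?_, ?_⟩
    · calc w * f * s * (w * f)⁻¹ = w * (f * s * f⁻¹) * w⁻¹ := by group
        _ = s := by rw [hf s hs, sg_cen b hs hpq hw]
    · rw [← rr_conj hws, ← h]
      group

section

variable [Finite G] (b : Base V L ε W) (hn : 7 ≤ n)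
include b hn

/-- if `r_kl^h` is not in the `D'`-orbit of `r_kl` then `W_ac` centralises `r_pq^h` -/
theorem perp {i j k l : Fin n} (hij : i ≠ j) (hkl : k ≠ l) (ki : k ≠ i) (kj : k ≠ j) (li : l ≠ i)
    (lj : l ≠ j) {h : G} (hh : h ∈ NN ε i j)
    (hno : ¬ ∃ d ∈ DD ε W i j, d * rr ε k l * d⁻¹ = h * rr ε k l * h⁻¹) {p q a c : Fin n}
    (hpq : p ≠ q) (pi : p ≠ i) (pj : p ≠ j) (qi : q ≠ i) (qj : q ≠ j) (hac : a ≠ c) (ai : a ≠ i)
    (aj : a ≠ j) (ci : c ≠ i) (cj : c ≠ j) {w : G} (hw : w ∈ W a c) :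
    w * (h * rr ε p q * h⁻¹) * w⁻¹ = h * rr ε p q * h⁻¹ := by
  by_contra hm
  set e := h * rr ε p q * h⁻¹ with he
  have hn3 : 3 ≤ n := by omega
  have wit : Wit ε i j e h p q := ⟨hh, hpq, pi, pj, qi, qj, he⟩
  have heK : KK ε i j e := ⟨h, p, q, wit⟩
  have heU := kk_mem_UU heK
  have hwc : Wc ε W i j (rr ε a c) w := (wc_rr b ⟨ai, aj⟩ ⟨ci, cj⟩ hac).mpr hw
  have hrK := wc_kk hwc
  have hrU := kk_mem_UU hrK
  have h1 : w * e * w⁻¹ = e * rr ε a c := (wc_act b hij hwc heU).resolve_left hm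
  -- adjacency
  have hS := sys b hn3 hij
  obtain ⟨f, hf⟩ := exists_f b hn3 hij hwc
  have hf1 : f (mk b hij heU) = 1 := by
    refine Tv.z2_one fun h0 => ?_
    rw [hf.iff_zero (kk_ne b hn3 hrK), val_mk] at h0
    exact hm h0
  have hadj : Tv.Adj (FF b hij) (mk b hij hrU) (mk b hij heU) := ⟨f, ⟨w, hwc, hf⟩, hf1⟩
  obtain ⟨g, ⟨x, hx, hg⟩, hg1⟩ := hS.sym (c := mk b hij hrU) (d := mk b hij heU) hrK heK hadj
  rw [val_mk] at hx
  have h2 : x * rr ε a c * x⁻¹ = rr ε a c * e := by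
    have h3 := hg (mk b hij hrU)
    rw [hg1, pw_one, val_mk, val_mk] at h3
    exact h3
  have h3 : w * e * w⁻¹ = x * rr ε a c * x⁻¹ := by
    rw [h1, h2, uu_comm b hij heU hrU]
  obtain ⟨d1, hd1, e1⟩ := dd_trans b ki kj li lj hkl ai aj ci cj hac
  obtain ⟨d2, hd2, e2⟩ := dd_trans b ki kj li lj hkl pi pj qi qj hpq
  have hd2' : h * d2 * h⁻¹ ∈ DD ε W i j := (mem_normalizer_iff.mp (dd_normal hh) d2).mp hd2
  apply hno
  refine ⟨(h * d2 * h⁻¹)⁻¹ * (w⁻¹ * x * d1), mul_mem (inv_mem hd2')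
    (mul_mem (mul_mem (inv_mem (wc_le_DD hwc)) (wc_le_DD hx)) hd1), ?_⟩
  have h4 : e = (w⁻¹ * x * d1) * rr ε k l * (w⁻¹ * x * d1)⁻¹ := by
    calc e = w⁻¹ * (w * e * w⁻¹) * w := by group
      _ = w⁻¹ * (x * rr ε a c * x⁻¹) * w := by rw [h3]
      _ = w⁻¹ * (x * (d1 * rr ε k l * d1⁻¹) * x⁻¹) * w := by rw [e1]
      _ = _ := by group
  calc (h * d2 * h⁻¹)⁻¹ * (w⁻¹ * x * d1) * rr ε k l * ((h * d2 * h⁻¹)⁻¹ * (w⁻¹ * x * d1))⁻¹
      = (h * d2 * h⁻¹)⁻¹ * ((w⁻¹ * x * d1) * rr ε k l * (w⁻¹ * x * d1)⁻¹) * (h * d2 * h⁻¹) := by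
        group
    _ = (h * d2 * h⁻¹)⁻¹ * e * (h * d2 * h⁻¹) := by rw [← h4]
    _ = h * (d2⁻¹ * rr ε p q * d2) * h⁻¹ := by rw [he]; group
    _ = _ := by rw [← e2]; group

end

section

variable [Finite G] (hG : IsCharacteristicTwoType G) (b : SixF V L ε W) (hodd : Odd n) (hn : 7 ≤ n)
  (S : Sylow 2 G) (hS : (S : Subgroup G) ≤ L) {o : Fin n}
  (ho : ∀ s ∈ (S : Subgroup G), s * zz ε o = zz ε o * s)
include hG b hodd hn hS ho

/-- (6): `V^h ≤ V Σ` for `h ∈ N_ij` -/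
theorem conj_V_le {i j : Fin n} (hij : i ≠ j) {h v : G} (hh : h ∈ NN ε i j) (hv : v ∈ V) :
    h⁻¹ * v * h ∈ BB V ε := by
  have hb := b.toBase
  obtain ⟨k, l, hkl, ⟨ki, kj, -, -⟩, li, lj, -, -⟩ := exists_off (by omega) i j i j
  by_cases hno : ∃ d ∈ DD ε W i j, d * rr ε k l * d⁻¹ = h * rr ε k l * h⁻¹
  · -- `h ∈ D' Y ≤ Γ`
    obtain ⟨d, hd, h1⟩ := hno
    have h2 : d⁻¹ * h ∈ NN ε k l := by
      rw [mem_NN']
      calc d⁻¹ * h * rr ε k l * (d⁻¹ * h)⁻¹ = d⁻¹ * (h * rr ε k l * h⁻¹) * d := by group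
        _ = rr ε k l := by rw [← h1]; group
    have h3 : d⁻¹ * h ∈ NN ε i j := mul_mem (inv_mem (dd_le_NN hb i j hd)) hh
    have h4 : d⁻¹ * h ∈ normalizer (BB V ε : Set G) := two_norm hb hodd hn hij hkl ki kj li lj h3 h2
    have h5 : h ∈ normalizer (BB V ε : Set G) := by
      have := mul_mem (dd_le hb hodd hn hij hd) h4
      rwa [mul_inv_cancel_left] at this
    have h6 := (mem_normalizer_iff.mp (inv_mem h5) v).mp (v_le_BB hv)
    rwa [inv_inv] at h6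
  · -- every `r_pq^h` is in `⟨r_ij⟩ Σ`
    have hval : ∀ p q, p ≠ q → p ≠ i → p ≠ j → q ≠ i → q ≠ j →
        h * rr ε p q * h⁻¹ ∈ SG ε ∨ ∃ s ∈ SG ε, h * rr ε p q * h⁻¹ = rr ε i j * s := by
      intro p q hpq pi pj qi qj
      have heU : h * rr ε p q * h⁻¹ ∈ UU ε i j := UU_normal hh (rr_mem_UU pi pj qi qj)
      have heB := uu_le_BB hG b hodd hn S hS ho hij heU
      obtain ⟨v0, hv0, s, hs, hvs⟩ := (mem_BB hb (by omega)).mp heB
      obtain ⟨y, rfl⟩ := b.ev.surj v0 hv0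
      have hfix : ∀ a c, a ≠ c → ∀ w ∈ W a c, w * (h * rr ε p q * h⁻¹) * w⁻¹ = h * rr ε p q * h⁻¹ →
          w * ε y * w⁻¹ = ε y := by
        intro a c hac w hw h1
        rw [hvs] at h1
        have h2 : w * (ε y * s) * w⁻¹ = (w * ε y * w⁻¹) * (w * s * w⁻¹) := by group
        rw [h2, sg_cen hb hs hac hw] at h1
        exact mul_right_cancel h1
      have h1 : y i = y j := by
        obtain ⟨w, hw, hws⟩ := b.mov i j hij
        refine coord b.ev (by omega) hws (hfix i j hij w hw ?_)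
        rw [mul_inv_eq_iff_eq_mul]
        exact (b.cen i j hij _ heU w hw).symm
      have h2 : ∀ a c, a ≠ c → a ≠ i → a ≠ j → c ≠ i → c ≠ j → y a = y c := by
        intro a c hac ai aj ci cj
        obtain ⟨w, hw, hws⟩ := b.mov a c hac
        exact coord b.ev (by omega) hws (hfix a c hac w hw
          (perp hb hn hij hkl ki kj li lj hh hno hpq pi pj qi qj hac ai aj ci cj hw))
      rcases two_values b.ev hij h1 h2 with h3 | h3
      · left
        rw [hvs, h3, one_mul]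
        exact hs
      · right
        exact ⟨s, hs, by rw [hvs, h3]⟩
    -- one of them is in `Σ`
    obtain ⟨p, q, hpq, ⟨pi, pj⟩, ⟨qi, qj⟩, hpqS⟩ : ∃ p q, p ≠ q ∧ (p ≠ i ∧ p ≠ j) ∧ (q ≠ i ∧ q ≠ j) ∧
        h * rr ε p q * h⁻¹ ∈ SG ε := by
      obtain ⟨p, q, r, hpq, hpr, hqr, ⟨p1, p2, -, -⟩, ⟨q1, q2, -, -⟩, ⟨r1, r2, -, -⟩⟩ :=
        exists_three hn i j i j
      rcases hval p q hpq p1 p2 q1 q2 with h1 | ⟨s1, hs1, h1⟩
      · exact ⟨p, q, hpq, ⟨p1, p2⟩, ⟨q1, q2⟩, h1⟩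
      rcases hval q r hqr q1 q2 r1 r2 with h2 | ⟨s2, hs2, h2⟩
      · exact ⟨q, r, hqr, ⟨q1, q2⟩, ⟨r1, r2⟩, h2⟩
      refine ⟨p, r, hpr, ⟨p1, p2⟩, ⟨r1, r2⟩, ?_⟩
      have h3 : h * rr ε p r * h⁻¹ = (h * rr ε p q * h⁻¹) * (h * rr ε q r * h⁻¹) := by
        rw [← rr_add b.ev p q r]
        group
      have h4 := sg_comm hb (by omega) hs1 (rr_mem b.ev i j)
      have h5 : h * rr ε p r * h⁻¹ = s1 * s2 := by
        rw [h3, h1, h2]
        calc rr ε i j * s1 * (rr ε i j * s2) = rr ε i j * (s1 * rr ε i j) * s2 := by group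
          _ = rr ε i j * (rr ε i j * s1) * s2 := by rw [h4]
          _ = (rr ε i j * rr ε i j) * (s1 * s2) := by group
          _ = s1 * s2 := by rw [rr_sq b.ev, one_mul]
      rw [h5]
      exact mul_mem hs1 hs2
    -- `h⁻¹ r_ac h ∈ U_pq`
    have hr : ∀ a c, a ≠ c → h⁻¹ * rr ε a c * h ∈ BB V ε := by
      intro a c hac
      obtain ⟨f, hf, hfr⟩ := trans_sg hb (i := i) (j := j) hij hac
      have h1 : h⁻¹ * f * h ∈ NN ε p q := by
        rw [mem_NN']
        calc h⁻¹ * f * h * rr ε p q * (h⁻¹ * f * h)⁻¹ = h⁻¹ * (f * (h * rr ε p q * h⁻¹) * f⁻¹) * h := by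
              group
          _ = rr ε p q := by rw [hf _ hpqS]; group
      have h2 : h⁻¹ * rr ε i j * h = rr ε i j := by
        have := mem_NN'.mp (inv_mem hh)
        rwa [inv_inv] at this
      have h3 : h⁻¹ * rr ε a c * h = (h⁻¹ * f * h) * rr ε i j * (h⁻¹ * f * h)⁻¹ := by
        rw [← hfr]
        calc h⁻¹ * (f * rr ε i j * f⁻¹) * h = (h⁻¹ * f * h) * (h⁻¹ * rr ε i j * h) * (h⁻¹ * f * h)⁻¹ := by
              group
          _ = _ := by rw [h2]
      rw [h3]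
      exact uu_le_BB hG b hodd hn S hS ho hpq
        (UU_normal h1 (rr_mem_UU (Ne.symm pi) (Ne.symm qi) (Ne.symm pj) (Ne.symm qj)))
    have hV : V ≤ (BB V ε).comap (MulAut.conj h⁻¹).toMonoidHom := by
      have hc : ∀ x, (MulAut.conj h⁻¹).toMonoidHom x = h⁻¹ * x * h := by
        intro x
        change h⁻¹ * x * h⁻¹⁻¹ = _
        rw [inv_inv]
      refine v_le_of_zz b.ev fun m => ?_
      obtain ⟨a, c, hac, ⟨am, -, -, -⟩, cm, -, -, -⟩ := exists_off (by omega) m m m m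
      refine zz_mem_of_rr b.ev hodd (by omega) hac ?_ ?_ am.symm cm.symm
      · rw [mem_comap, hc]
        exact hr a c hac
      · intro a' c' hac' _ _ _ _
        rw [mem_comap, hc]
        exact hr a' c' hac'
    have h1 := hV hv
    rw [mem_comap] at h1
    change h⁻¹ * v * h⁻¹⁻¹ ∈ BB V ε at h1
    rwa [inv_inv] at h1

/-- **THEOREM**: `C_G(r_ij) ≤ N_G(V Σ)` -/
theorem nn_le {i j : Fin n} (hij : i ≠ j) : NN ε i j ≤ GG V ε := by
  have hb := b.toBase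
  intro h hh
  refine mem_normalizer_of_le fun x hx => ?_
  obtain ⟨v, hv, s, hs, rfl⟩ := (mem_BB hb (by omega)).mp hx
  have h1 := conj_V_le hG b hodd hn S hS ho hij (inv_mem hh) hv
  rw [inv_inv] at h1
  have h2 : h * s * h⁻¹ ∈ BB V ε :=
    uu_le_BB hG b hodd hn S hS ho hij (UU_normal hh (hs i j hij))
  have h3 : h * (v * s) * h⁻¹ = (h * v * h⁻¹) * (h * s * h⁻¹) := by group
  rw [h3]
  exact mul_mem h1 h2

/-- `V` and `V^h` commute, `h ∈ C_G(r_ij)` -/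
theorem conj_comm {i j : Fin n} (hij : i ≠ j) {h v v' : G} (hh : h ∈ NN ε i j) (hv : v ∈ V)
    (hv' : v' ∈ V) : v * (h * v' * h⁻¹) = (h * v' * h⁻¹) * v :=
  bb_comm b.toBase (by omega) (v_le_BB hv)
    ((mem_normalizer_iff.mp (nn_le hG b hodd hn S hS ho hij hh) v').mp (v_le_BB hv'))

/-- **no T-T pair** -/
theorem SixF.false (htt : ∃ i j, i ≠ j ∧ ∃ h ∈ NN ε i j, ∃ v ∈ V, ∃ v' ∈ V,
    v * (h * v' * h⁻¹) ≠ (h * v' * h⁻¹) * v) : False := by
  obtain ⟨i, j, hij, h, hh, v, hv, v', hv', hne⟩ := htt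
  exact hne (conj_comm hG b hodd hn S hS ho hij hh hv hv')

end

end Cfsg.Agent.Omega.NSix.Free

end

section


/-!
# OMEGA N6 / LeafF4, `m ≥ 3` (#18458, helper300): the END for a partner of type `T`

`SixF.central`: the elements of the centre of `O₂(C_G(r_ij))` are in `O₂(C_G(r_pq))` for all pairs.
`SixF.false_three`: `c₁ c₂ c₃ = 1`, all in the centre of `O₂(C_G(r_ij))`; `a'` induces `(i j)` on `V` and commutes with
`r_ij ^ f` for every `f` which commutes with some `c_k` : impossible.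
-/

set_option autoImplicit false

namespace Cfsg.Agent.Omega.NSix.Free

open Subgroup Cfsg
open Cfsg.Agent.ZN (o2)
open Cfsg.Agent.MinSimple.VModule (o2_le)
open Cfsg.Agent.MinSimple.Geo (inf_centralizer_o2_le)
open Cfsg.Agent.Omega.S5.Def Cfsg.Agent.Omega.NSix.Base Cfsg.Agent.Omega.NSix.Basic
open Cfsg.Agent.Omega.NSix.One
open Cfsg.Agent.Omega.NSix.End.Six (exists_off)

universe u

variable {G : Type u} [Group G] {n : ℕ} {V L : Subgroup G} {ε : (Fin n → ZMod 2) → G}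
  {W : Fin n → Fin n → Subgroup G}

section

variable [Finite G] (hG : IsCharacteristicTwoType G) (b : SixF V L ε W) (hodd : Odd n) (hn : 7 ≤ n)
  (S : Sylow 2 G) (hS : (S : Subgroup G) ≤ L) {o : Fin n}
  (ho : ∀ s ∈ (S : Subgroup G), s * zz ε o = zz ε o * s)
include hG b hodd hn hS ho

/-- `Z(O₂(C_G(r_ij))) ≤ O₂(C_G(r_pq))` for all pairs -/
theorem SixF.central {i j : Fin n} (hij : i ≠ j) {c : G} (hc : c ∈ o2 (NN ε i j))
    (hcc : ∀ x ∈ o2 (NN ε i j), c * x = x * c) {p q : Fin n} (hpq : p ≠ q) : c ∈ o2 (NN ε p q) := by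
  refine o_le b hodd hn S hS ho hpq
    (inf_centralizer_o2_le hG (gg_local b.toBase (by omega)) (Subgroup.mem_inf.mpr ⟨?_, ?_⟩))
  · exact nn_le hG b hodd hn S hS ho hij (o2_le _ hc)
  · rw [mem_centralizer_iff]
    intro x hx
    exact (hcc x (o_le b hodd hn S hS ho hij hx)).symm

/-- `w ∈ W_ip`, inducing `(i p)`: `c^w = c r_ip` -/
theorem SixF.central_conj {i j p : Fin n} (hij : i ≠ j) (pi : p ≠ i) (pj : p ≠ j) {c : G} (hc : c ∈ o2 (NN ε i j))
    (hcc : ∀ x ∈ o2 (NN ε i j), c * x = x * c) {a : G} (ha : Acts ε a (Equiv.swap i j))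
    (hf : ∀ f : G, f * c = c * f → a * (f * rr ε i j * f⁻¹) = (f * rr ε i j * f⁻¹) * a)
    {w : G} (hw : w ∈ W i p) (hws : Acts ε w (Equiv.swap i p)) : w * c * w⁻¹ = c * rr ε i p := by
  refine (b.qc i p pi.symm c (SixF.central hG b hodd hn S hS ho hij hc hcc pi.symm) w hw).resolve_left
    fun h1 => ?_
  have h2 := hf w (mul_inv_eq_iff_eq_mul.mp h1)
  have h3 := rr_conj hws (i := i) (j := j)
  rw [Equiv.swap_apply_left, Equiv.swap_apply_of_ne_of_ne hij.symm pj.symm] at h3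
  rw [h3] at h2
  have h4 := rr_conj ha (i := p) (j := j)
  rw [Equiv.swap_apply_right, Equiv.swap_apply_of_ne_of_ne pi pj, h2, mul_inv_cancel_right] at h4
  have h5 := rr_add b.ev p j i
  have h6 : rr ε p i * rr ε p j = 1 := by
    rw [← h4, rr_sq b.ev]
  have h7 := rr_add b.ev i p j
  rw [rr_symm b.ev i p, h6] at h7
  exact rr_ne_one b.ev (by omega) hij h7.symm

/-- **END for a partner of type `T`** -/
theorem SixF.false_three {i j : Fin n} (hij : i ≠ j) {c : Fin 3 → G} (hc : ∀ k, c k ∈ o2 (NN ε i j))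
    (hcc : ∀ k, ∀ x ∈ o2 (NN ε i j), c k * x = x * c k) (hp : c 0 * c 1 * c 2 = 1) {a : G}
    (ha : Acts ε a (Equiv.swap i j))
    (hf : ∀ k, ∀ f : G, f * c k = c k * f → a * (f * rr ε i j * f⁻¹) = (f * rr ε i j * f⁻¹) * a) : False := by
  obtain ⟨p, -, -, ⟨pi, pj, -, -⟩, -⟩ := exists_off (n := n) (by omega) i j i j
  obtain ⟨w, hw, hws⟩ := b.mov i p pi.symm
  have h1 := fun k => SixF.central_conj hG b hodd hn S hS ho hij pi pj (hc k) (hcc k) ha (hf k) hw hws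
  have h2 : ∀ k, rr ε i p * c k = c k * rr ε i p := fun k =>
    (mem_NN.mp (o2_le _ (SixF.central hG b hodd hn S hS ho hij (hc k) (hcc k) pi.symm))).symm
  have h3 : w * (c 0 * c 1 * c 2) * w⁻¹ = (w * c 0 * w⁻¹) * (w * c 1 * w⁻¹) * (w * c 2 * w⁻¹) := by group
  rw [h1 0, h1 1, h1 2, hp, mul_one, mul_inv_cancel] at h3
  have h4 : c 0 * rr ε i p * (c 1 * rr ε i p) * (c 2 * rr ε i p) = rr ε i p := by
    calc c 0 * rr ε i p * (c 1 * rr ε i p) * (c 2 * rr ε i p)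
        = c 0 * (rr ε i p * c 1) * rr ε i p * (c 2 * rr ε i p) := by group
      _ = c 0 * c 1 * (rr ε i p * rr ε i p) * (c 2 * rr ε i p) := by rw [h2 1]; group
      _ = (c 0 * c 1 * c 2) * rr ε i p := by rw [rr_sq b.ev]; group
      _ = rr ε i p := by rw [hp, one_mul]
  rw [h4] at h3
  exact rr_ne_one b.ev (by omega) pi.symm h3.symm

/-- **END for a partner with two commuting central elements**: `c₁ c₂ = c₃` all as in `central_conj` -/
theorem SixF.false_two {i j : Fin n} (hij : i ≠ j) {c₁ c₂ : G} (hc₁ : c₁ ∈ o2 (NN ε i j)) (hc₂ : c₂ ∈ o2 (NN ε i j))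
    (hcc₁ : ∀ x ∈ o2 (NN ε i j), c₁ * x = x * c₁) (hcc₂ : ∀ x ∈ o2 (NN ε i j), c₂ * x = x * c₂) {a : G}
    (ha : Acts ε a (Equiv.swap i j))
    (hf₁ : ∀ f : G, f * c₁ = c₁ * f → a * (f * rr ε i j * f⁻¹) = (f * rr ε i j * f⁻¹) * a)
    (hf₂ : ∀ f : G, f * c₂ = c₂ * f → a * (f * rr ε i j * f⁻¹) = (f * rr ε i j * f⁻¹) * a)
    (hf₃ : ∀ f : G, f * (c₁ * c₂) = c₁ * c₂ * f → a * (f * rr ε i j * f⁻¹) = (f * rr ε i j * f⁻¹) * a) :
    False := by
  have hm3 : c₁ * c₂ ∈ o2 (NN ε i j) := mul_mem hc₁ hc₂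
  have hc3 : ∀ x ∈ o2 (NN ε i j), c₁ * c₂ * x = x * (c₁ * c₂) := fun x hx => by
    rw [mul_assoc, hcc₂ x hx, ← mul_assoc, hcc₁ x hx, mul_assoc]
  obtain ⟨p, -, -, ⟨pi, pj, -, -⟩, -⟩ := exists_off (n := n) (by omega) i j i j
  obtain ⟨w, hw, hws⟩ := b.mov i p pi.symm
  have h1 := SixF.central_conj hG b hodd hn S hS ho hij pi pj hc₁ hcc₁ ha hf₁ hw hws
  have h2 := SixF.central_conj hG b hodd hn S hS ho hij pi pj hc₂ hcc₂ ha hf₂ hw hws
  have h3 := SixF.central_conj hG b hodd hn S hS ho hij pi pj hm3 hc3 ha hf₃ hw hws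
  have h4 : rr ε i p * c₂ = c₂ * rr ε i p :=
    (mem_NN.mp (o2_le _ (SixF.central hG b hodd hn S hS ho hij hc₂ hcc₂ pi.symm))).symm
  have h5 : w * (c₁ * c₂) * w⁻¹ = (w * c₁ * w⁻¹) * (w * c₂ * w⁻¹) := by group
  rw [h3, h1, h2] at h5
  have h6 : c₁ * rr ε i p * (c₂ * rr ε i p) = c₁ * c₂ := by
    calc c₁ * rr ε i p * (c₂ * rr ε i p) = c₁ * (rr ε i p * c₂) * rr ε i p := by group
      _ = c₁ * c₂ * (rr ε i p * rr ε i p) := by rw [h4]; group
      _ = c₁ * c₂ := by rw [rr_sq b.ev, mul_one]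
  rw [h6] at h5
  exact rr_ne_one b.ev (by omega) pi.symm (mul_eq_left.mp h5)

end

end Cfsg.Agent.Omega.NSix.Free

end

section


/-!
# OMEGA N6 / LeafF4 / SwBig: THEOREM V+ (#17493, helper871) on `SixF`

`SixF V L ε W` ((H1), (H2)), `n` odd `≥ 7`; no Sylow subgroup in `L`, no fixed point, `G` any finite group:
* `uu_uu` : all `U_p`, `U_q` commute;
* `all_le` : `U_p ≤ O₂(N_q)` for all pairs `p`, `q`;
* `uu_le_BB` : `U_p ≤ V Σ`;
* `nn_le` : `C_G(r_p) ≤ N_G(V Σ)`;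
* `conj_comm`, `false` : there is no T-T pair.
-/

set_option autoImplicit false

namespace Cfsg.Agent.Omega.NSix.Free.Plus

open Subgroup Cfsg
open Cfsg.Agent.ZN (o2)
open Cfsg.Agent.MinSimple.VModule (o2_le o2_isPGroup le_normalizer_o2 le_o2)
open Cfsg.Agent.Omega.S5.Def Cfsg.Agent.Omega.NSix.Base Cfsg.Agent.Omega.NSix.Basic
open Cfsg.Agent.Omega.NSix.One
open Cfsg.Agent.Omega.NSix.End (uu_cenV uu_acts cenV_NN)
open Cfsg.Agent.Omega.NSix.End.Six (exists_off norm_o2 norm_cen uu_norm)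

universe u

variable {G : Type u} [Group G] {n : ℕ} {V L : Subgroup G} {ε : (Fin n → ZMod 2) → G}
  {W : Fin n → Fin n → Subgroup G}

/-- `C_G(V Σ)` -/
def KP (V : Subgroup G) (ε : (Fin n → ZMod 2) → G) : Subgroup G := centralizer (BB V ε : Set G)

/-- `C_G(V Σ ∩ U_ij)` -/
def CX (V : Subgroup G) (ε : (Fin n → ZMod 2) → G) (i j : Fin n) : Subgroup G :=
  centralizer ((BB V ε ⊓ UU ε i j : Subgroup G) : Set G)

theorem kp_le_cx (i j : Fin n) : KP V ε ≤ CX V ε i j := centralizer_le inf_le_left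

theorem uu_le_KP (b : Base V L ε W) {i j : Fin n} (hij : i ≠ j) : UU ε i j ≤ KP V ε := by
  intro u hu
  have h1 : BB V ε ≤ centralizer ({u} : Set G) := by
    refine sup_le ?_ ?_
    · intro v hv
      rw [mem_centralizer_singleton_iff]
      exact (b.cen i j hij u hu v (b.Vle i j hij hv)).symm
    · intro s hs
      rw [mem_centralizer_singleton_iff]
      exact uu_comm b hij (hs i j hij) hu
  unfold KP
  rw [mem_centralizer_iff]
  intro y hy
  have h2 := h1 hy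
  rwa [mem_centralizer_singleton_iff] at h2

theorem kp_le_NN (b : Base V L ε W) (i j : Fin n) : KP V ε ≤ NN ε i j := by
  intro g hg
  rw [mem_NN]
  exact (mem_centralizer_iff.mp hg _ (v_le_BB (rr_mem b.ev i j))).symm

section

variable [Finite G] (b : SixF V L ε W) (hodd : Odd n) (hn : 7 ≤ n)

omit [Finite G] in
theorem gg_kp : GG V ε ≤ normalizer (KP V ε : Set G) := norm_cen _

omit [Finite G] in
include b in
theorem uu_le_o2KP {i j : Fin n} (hij : i ≠ j) : UU ε i j ≤ o2 (KP V ε) :=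
  le_o2 (uu_le_KP b.toBase hij) (uu_two b.toBase hij) ((kp_le_NN b.toBase i j).trans (uu_norm i j))

include b hodd hn in
theorem cx_le_GG {i j : Fin n} (hij : i ≠ j) : CX V ε i j ≤ GG V ε := by
  intro g hg
  obtain ⟨k, l, hkl, ⟨ki, kj, -, -⟩, li, lj, -, -⟩ := exists_off (by omega) i j i j
  refine two_norm b.toBase hodd hn hij hkl ki kj li lj ?_ ?_
  · rw [mem_NN]
    exact (mem_centralizer_iff.mp hg _ (Subgroup.mem_inf.mpr ⟨v_le_BB (rr_mem b.ev i j),
      rr_self_mem_UU b.ev hij⟩)).symm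
  · rw [mem_NN]
    exact (mem_centralizer_iff.mp hg _ (Subgroup.mem_inf.mpr ⟨v_le_BB (rr_mem b.ev k l),
      rr_mem_UU ki kj li lj⟩)).symm

include b hodd hn in
theorem kp_le_cx2 {i j : Fin n} (hij : i ≠ j) : o2 (KP V ε) ≤ o2 (CX V ε i j) :=
  le_o2 ((o2_le _).trans (kp_le_cx i j)) (o2_isPGroup _)
    (((cx_le_GG b hodd hn hij).trans gg_kp).trans (norm_o2 _))

include b hodd hn in
theorem dd_le_cx {i j : Fin n} (hij : i ≠ j) : DD ε W i j ≤ normalizer (o2 (CX V ε i j) : Set G) := by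
  refine le_trans ?_ ((norm_cen _).trans (norm_o2 _))
  intro g hg
  have h1 := dd_le b.toBase hodd hn hij hg
  have h2 := uu_norm (ε := ε) i j (dd_le_NN b.toBase i j hg)
  refine mem_normalizer_of_le fun x hx => ?_
  obtain ⟨h3, h4⟩ := Subgroup.mem_inf.mp hx
  exact Subgroup.mem_inf.mpr ⟨(mem_normalizer_iff.mp h1 x).mp h3, (mem_normalizer_iff.mp h2 x).mp h4⟩

include b hodd hn in
/-- `[U_kl, D'] ≤ O₂(N_ij)` -/
theorem comm_dd {i j k l : Fin n} (hij : i ≠ j) (hkl : k ≠ l) {q : G} (hq : q ∈ UU ε k l) {x : G}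
    (hx : x ∈ DD ε W i j) : q * x * q⁻¹ * x⁻¹ ∈ o2 (NN ε i j) := by
  have hb := b.toBase
  have hqN : q ∈ NN ε i j := kp_le_NN hb i j (uu_le_KP hb hkl hq)
  have hqO : q ∈ o2 (CX V ε i j) := kp_le_cx2 b hodd hn hij (uu_le_o2KP b hkl hq)
  have h1 : q * x * q⁻¹ * x⁻¹ ∈ o2 (CX V ε i j) ⊓ DD ε W i j := by
    refine Subgroup.mem_inf.mpr ⟨?_, ?_⟩
    · have h2 : x * q⁻¹ * x⁻¹ ∈ o2 (CX V ε i j) :=
        (mem_normalizer_iff.mp (dd_le_cx b hodd hn hij hx) _).mp (inv_mem hqO)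
      have h3 : q * x * q⁻¹ * x⁻¹ = q * (x * q⁻¹ * x⁻¹) := by group
      rw [h3]
      exact mul_mem hqO h2
    · exact mul_mem ((mem_normalizer_iff.mp (dd_normal hqN) x).mp hx) (inv_mem hx)
  have h2 : o2 (CX V ε i j) ⊓ DD ε W i j ≤ o2 (DD ε W i j) := by
    refine le_o2 inf_le_right ((o2_isPGroup _).to_le inf_le_left) ?_
    intro g hg
    refine mem_normalizer_of_le fun y hy => ?_
    obtain ⟨h3, h4⟩ := Subgroup.mem_inf.mp hy
    exact Subgroup.mem_inf.mpr ⟨(mem_normalizer_iff.mp (dd_le_cx b hodd hn hij hg) y).mp h3,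
      mul_mem (mul_mem hg h4) (inv_mem hg)⟩
  have h3 : o2 (DD ε W i j) ≤ o2 (NN ε i j) :=
    le_o2 ((o2_le _).trans (dd_le_NN hb i j)) (o2_isPGroup _) (dd_normal.trans (norm_o2 _))
  exact h3 (h2 h1)

include b hodd hn in
/-- **all `U_p` commute** -/
theorem uu_uu {i j a b' : Fin n} (hij : i ≠ j) (hab : a ≠ b') {q u : G} (hq : q ∈ UU ε a b') (hu : u ∈ UU ε i j) :
    u * q = q * u := by
  have hb := b.toBase
  have hqN : q ∈ NN ε i j := kp_le_NN hb i j (uu_le_KP hb hab hq)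
  -- `O` centralises `K`
  have hK : ∀ k l, k ≠ l → k ≠ i → k ≠ j → l ≠ i → l ≠ j → ∀ g ∈ NN ε i j,
      q * (g * rr ε k l * g⁻¹) * q⁻¹ = g * rr ε k l * g⁻¹ := by
    intro k l hkl ki kj li lj g hg
    set c := g * rr ε k l * g⁻¹ with hc
    have wit : Wit ε i j c g k l := ⟨hg, hkl, ki, kj, li, lj, hc⟩
    obtain ⟨w, hw, hws⟩ := b.mov k l hkl
    obtain ⟨m, m', -, ⟨mi, mj, mk, ml⟩, -⟩ := exists_off (by omega) i j k l
    set x := g * w * g⁻¹ with hx
    have hxc : Wc ε W i j c x := by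
      rw [wc_iff hb wit]
      have : g⁻¹ * x * g = w := by rw [hx]; group
      rwa [this]
    have hcne : c ≠ 1 := kk_ne hb (by omega) (wc_kk hxc)
    set u0 := g * rr ε l m * g⁻¹ with hu0
    have hu0U : u0 ∈ UU ε i j := UU_normal hg (rr_mem_UU li lj mi mj)
    have hmove : x * u0 * x⁻¹ ≠ u0 := by
      intro h1
      have h2 : w * rr ε l m * w⁻¹ = rr ε l m := by
        calc w * rr ε l m * w⁻¹ = g⁻¹ * (x * u0 * x⁻¹) * g := by rw [hx, hu0]; group
          _ = rr ε l m := by rw [h1, hu0]; group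
      rw [rr_conj hws, Equiv.swap_apply_right, Equiv.swap_apply_of_ne_of_ne mk ml] at h2
      have h3 : rr ε k l = 1 := by
        have h4 := rr_add b.ev k m l
        rw [rr_symm b.ev m l, h2, rr_sq b.ev] at h4
        exact h4.symm
      exact rr_ne_one b.ev (by omega) hkl h3
    have hmove2 := (wc_act hb hij hxc hu0U).resolve_left hmove
    set u1 := q * u0 * q⁻¹ with hu1
    have hu1U : u1 ∈ UU ε i j := UU_normal hqN hu0U
    have hxN := wc_NN hb hxc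
    set y := q * x * q⁻¹ * x⁻¹ with hy
    have hyQ : y ∈ o2 (NN ε i j) := comm_dd b hodd hn hij hab hq (wc_le_DD hxc)
    have h1 : x * u1 * x⁻¹ = u1 * (q * c * q⁻¹) := by
      have h2 : (x * u1 * x⁻¹) * y = y * (x * u1 * x⁻¹) :=
        b.uq i j hij _ (UU_normal hxN hu1U) y hyQ
      calc x * u1 * x⁻¹ = (x * u1 * x⁻¹) * y * y⁻¹ := by group
        _ = y * (x * u1 * x⁻¹) * y⁻¹ := by rw [h2]
        _ = q * (x * u0 * x⁻¹) * q⁻¹ := by rw [hy, hu1]; group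
        _ = _ := by rw [hmove2, hu1]; group
    rcases wc_act hb hij hxc hu1U with h2 | h2
    · rw [h2] at h1
      have h3 : q * c * q⁻¹ = 1 := (mul_eq_left.mp h1.symm)
      exfalso
      apply hcne
      calc c = q⁻¹ * (q * c * q⁻¹) * q := by group
        _ = 1 := by rw [h3]; group
    · rw [h2] at h1
      exact (mul_left_cancel h1).symm
  -- `U_ij`
  have hU : UU ε i j ≤ centralizer ({q} : Set G) := by
    unfold UU
    rw [closure_le]
    rintro x ⟨g, hg, m, mi, mj, rfl⟩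
    have h1 : zz ε m ∈ (centralizer ({q} : Set G)).comap (MulAut.conj g).toMonoidHom := by
      refine zz_mem_of_rr b.ev hodd (by omega) hij ?_ ?_ mi mj
      · change g * rr ε i j * g⁻¹ ∈ centralizer ({q} : Set G)
        rw [mem_NN'.mp hg, mem_centralizer_singleton_iff]
        exact (mem_NN.mp hqN).symm
      · intro a c hac ai aj ci cj
        change g * rr ε a c * g⁻¹ ∈ centralizer ({q} : Set G)
        rw [mem_centralizer_singleton_iff]
        have h2 := hK a c hac ai aj ci cj g hg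
        rw [mul_inv_eq_iff_eq_mul] at h2
        exact h2.symm
    exact h1
  have h1 := hU hu
  rw [mem_centralizer_singleton_iff] at h1
  exact h1

include b hodd hn in
/-- **`U_p ≤ O₂(N_q)` for all pairs** -/
theorem all_le {i j k l : Fin n} (hij : i ≠ j) (hkl : k ≠ l) : UU ε i j ≤ o2 (NN ε k l) := by
  have hb := b.toBase
  have h1 : UU ε i j ≤ o2 (KP V ε) ⊓ CC ε k l := by
    intro u hu
    refine Subgroup.mem_inf.mpr ⟨uu_le_o2KP b hij hu, Subgroup.mem_inf.mpr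
      ⟨kp_le_NN hb k l (uu_le_KP hb hij hu), ?_⟩⟩
    rw [mem_centralizer_iff]
    intro y hy
    exact uu_uu b hodd hn hkl hij hu hy
  have h2 : o2 (KP V ε) ⊓ CC ε k l ≤ o2 (CC ε k l) := by
    refine le_o2 inf_le_right ((o2_isPGroup _).to_le inf_le_left) ?_
    intro g hg
    have hg' := norm_o2 _ (gg_kp (cc_le_GG b hodd hn hkl hg))
    refine mem_normalizer_of_le fun y hy => ?_
    obtain ⟨h3, h4⟩ := Subgroup.mem_inf.mp hy
    exact Subgroup.mem_inf.mpr ⟨(mem_normalizer_iff.mp hg' y).mp h3, mul_mem (mul_mem hg h4) (inv_mem hg)⟩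
  have h3 : o2 (CC ε k l) ≤ o2 (NN ε k l) :=
    le_o2 ((o2_le _).trans inf_le_left) (o2_isPGroup _) ((cc_normal k l).trans (norm_o2 _))
  exact h1.trans (h2.trans h3)

include b hodd hn in
/-- (5), the exchange -/
theorem exch {i j k : Fin n} (hij : i ≠ j) (hik : i ≠ k) (hjk : j ≠ k) {y : G}
    (hy : y ∈ UU ε i j) : ∃ v ∈ V, y * v ∈ UU ε k j := by
  obtain ⟨w, hw, hws⟩ := b.mov i k hik
  have h1 := UU_conj hws hy
  rw [Equiv.swap_apply_left, swap_fix hij.symm hjk] at h1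
  rcases b.qc i k hik y (all_le b hodd hn hij hik hy) w hw with h2 | h2
  · rw [h2] at h1
    exact ⟨1, one_mem _, by rwa [mul_one]⟩
  · rw [h2] at h1
    exact ⟨_, rr_mem b.ev i k, h1⟩

include b hodd hn in
theorem move {i j k l : Fin n} (hij : i ≠ j) (hkl : k ≠ l) {y : G} (hy : y ∈ UU ε i j) :
    ∃ v ∈ V, y * v ∈ UU ε k l := by
  have key : ∀ {i j : Fin n}, i ≠ j → i ≠ l → ∀ {y : G}, y ∈ UU ε i j → i = k →
      ∃ v ∈ V, y * v ∈ UU ε k l := by
    intro i j hij hil y hy hik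
    subst hik
    by_cases h1 : j = l
    · subst h1
      exact ⟨1, one_mem _, by rwa [mul_one]⟩
    · rw [UU_symm b.ev] at hy ⊢
      exact exch b hodd hn hij.symm h1 hil hy
  by_cases h1 : i = k
  · exact key hij (h1 ▸ hkl) hy h1
  by_cases h2 : j = k
  · rw [UU_symm b.ev] at hy
    exact key hij.symm (h2 ▸ hkl) hy h2
  · obtain ⟨v, hv, h3⟩ := exch b hodd hn hij h1 h2 hy
    obtain ⟨v', hv', h4⟩ := key (i := k) (j := j) (Ne.symm h2) hkl h3 rfl
    exact ⟨v * v', mul_mem hv hv', by rwa [← mul_assoc]⟩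

include b hodd hn in
/-- **(5)**: `U_ij ≤ V Σ` -/
theorem uu_le_BB {i j : Fin n} (hij : i ≠ j) : UU ε i j ≤ BB V ε := by
  intro y hy
  refine good_mem_BB b.toBase hodd hn hij hy fun a c hac => ⟨?_, ?_⟩
  · intro w hw hw1
    obtain ⟨k, l, hkl, ⟨k1, k2, -, -⟩, l1, l2, -, -⟩ := exists_off (by omega) a c a c
    obtain ⟨v, hv, h1⟩ := move b hodd hn hij hkl hy
    have h2 := one b.toBase hodd hn hkl hac (Ne.symm k1) (Ne.symm l1) (Ne.symm k2) (Ne.symm l2)
      hw hw1 h1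
    have h3 : w * v * w⁻¹ = v := by
      obtain ⟨x, rfl⟩ := b.ev.surj v hv
      exact hw1 x
    have h4 : w * (y * v) * w⁻¹ = (w * y * w⁻¹) * (w * v * w⁻¹) := by group
    rw [h4, h3] at h2
    exact mul_right_cancel h2
  · intro w hw
    exact b.qc a c hac y (all_le b hodd hn hij hac hy) w hw

end

section

variable [Finite G] (b : SixF V L ε W) (hodd : Odd n) (hn : 7 ≤ n)
include b hodd hn

/-- (6): `V^h ≤ V Σ` for `h ∈ N_ij` -/
theorem conj_V_le {i j : Fin n} (hij : i ≠ j) {h v : G} (hh : h ∈ NN ε i j) (hv : v ∈ V) :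
    h⁻¹ * v * h ∈ BB V ε := by
  have hb := b.toBase
  obtain ⟨k, l, hkl, ⟨ki, kj, -, -⟩, li, lj, -, -⟩ := exists_off (by omega) i j i j
  by_cases hno : ∃ d ∈ DD ε W i j, d * rr ε k l * d⁻¹ = h * rr ε k l * h⁻¹
  · -- `h ∈ D' Y ≤ Γ`
    obtain ⟨d, hd, h1⟩ := hno
    have h2 : d⁻¹ * h ∈ NN ε k l := by
      rw [mem_NN']
      calc d⁻¹ * h * rr ε k l * (d⁻¹ * h)⁻¹ = d⁻¹ * (h * rr ε k l * h⁻¹) * d := by group
        _ = rr ε k l := by rw [← h1]; group
    have h3 : d⁻¹ * h ∈ NN ε i j := mul_mem (inv_mem (dd_le_NN hb i j hd)) hh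
    have h4 : d⁻¹ * h ∈ normalizer (BB V ε : Set G) := two_norm hb hodd hn hij hkl ki kj li lj h3 h2
    have h5 : h ∈ normalizer (BB V ε : Set G) := by
      have := mul_mem (dd_le hb hodd hn hij hd) h4
      rwa [mul_inv_cancel_left] at this
    have h6 := (mem_normalizer_iff.mp (inv_mem h5) v).mp (v_le_BB hv)
    rwa [inv_inv] at h6
  · -- every `r_pq^h` is in `⟨r_ij⟩ Σ`
    have hval : ∀ p q, p ≠ q → p ≠ i → p ≠ j → q ≠ i → q ≠ j →
        h * rr ε p q * h⁻¹ ∈ SG ε ∨ ∃ s ∈ SG ε, h * rr ε p q * h⁻¹ = rr ε i j * s := by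
      intro p q hpq pi pj qi qj
      have heU : h * rr ε p q * h⁻¹ ∈ UU ε i j := UU_normal hh (rr_mem_UU pi pj qi qj)
      have heB := uu_le_BB b hodd hn hij heU
      obtain ⟨v0, hv0, s, hs, hvs⟩ := (mem_BB hb (by omega)).mp heB
      obtain ⟨y, rfl⟩ := b.ev.surj v0 hv0
      have hfix : ∀ a c, a ≠ c → ∀ w ∈ W a c, w * (h * rr ε p q * h⁻¹) * w⁻¹ = h * rr ε p q * h⁻¹ →
          w * ε y * w⁻¹ = ε y := by
        intro a c hac w hw h1
        rw [hvs] at h1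
        have h2 : w * (ε y * s) * w⁻¹ = (w * ε y * w⁻¹) * (w * s * w⁻¹) := by group
        rw [h2, sg_cen hb hs hac hw] at h1
        exact mul_right_cancel h1
      have h1 : y i = y j := by
        obtain ⟨w, hw, hws⟩ := b.mov i j hij
        refine coord b.ev (by omega) hws (hfix i j hij w hw ?_)
        rw [mul_inv_eq_iff_eq_mul]
        exact (b.cen i j hij _ heU w hw).symm
      have h2 : ∀ a c, a ≠ c → a ≠ i → a ≠ j → c ≠ i → c ≠ j → y a = y c := by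
        intro a c hac ai aj ci cj
        obtain ⟨w, hw, hws⟩ := b.mov a c hac
        exact coord b.ev (by omega) hws (hfix a c hac w hw
          (perp hb hn hij hkl ki kj li lj hh hno hpq pi pj qi qj hac ai aj ci cj hw))
      rcases two_values b.ev hij h1 h2 with h3 | h3
      · left
        rw [hvs, h3, one_mul]
        exact hs
      · right
        exact ⟨s, hs, by rw [hvs, h3]⟩
    -- one of them is in `Σ`
    obtain ⟨p, q, hpq, ⟨pi, pj⟩, ⟨qi, qj⟩, hpqS⟩ : ∃ p q, p ≠ q ∧ (p ≠ i ∧ p ≠ j) ∧ (q ≠ i ∧ q ≠ j) ∧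
        h * rr ε p q * h⁻¹ ∈ SG ε := by
      obtain ⟨p, q, r, hpq, hpr, hqr, ⟨p1, p2, -, -⟩, ⟨q1, q2, -, -⟩, ⟨r1, r2, -, -⟩⟩ :=
        exists_three hn i j i j
      rcases hval p q hpq p1 p2 q1 q2 with h1 | ⟨s1, hs1, h1⟩
      · exact ⟨p, q, hpq, ⟨p1, p2⟩, ⟨q1, q2⟩, h1⟩
      rcases hval q r hqr q1 q2 r1 r2 with h2 | ⟨s2, hs2, h2⟩
      · exact ⟨q, r, hqr, ⟨q1, q2⟩, ⟨r1, r2⟩, h2⟩
      refine ⟨p, r, hpr, ⟨p1, p2⟩, ⟨r1, r2⟩, ?_⟩
      have h3 : h * rr ε p r * h⁻¹ = (h * rr ε p q * h⁻¹) * (h * rr ε q r * h⁻¹) := by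
        rw [← rr_add b.ev p q r]
        group
      have h4 := sg_comm hb (by omega) hs1 (rr_mem b.ev i j)
      have h5 : h * rr ε p r * h⁻¹ = s1 * s2 := by
        rw [h3, h1, h2]
        calc rr ε i j * s1 * (rr ε i j * s2) = rr ε i j * (s1 * rr ε i j) * s2 := by group
          _ = rr ε i j * (rr ε i j * s1) * s2 := by rw [h4]
          _ = (rr ε i j * rr ε i j) * (s1 * s2) := by group
          _ = s1 * s2 := by rw [rr_sq b.ev, one_mul]
      rw [h5]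
      exact mul_mem hs1 hs2
    -- `h⁻¹ r_ac h ∈ U_pq`
    have hr : ∀ a c, a ≠ c → h⁻¹ * rr ε a c * h ∈ BB V ε := by
      intro a c hac
      obtain ⟨f, hf, hfr⟩ := trans_sg hb (i := i) (j := j) hij hac
      have h1 : h⁻¹ * f * h ∈ NN ε p q := by
        rw [mem_NN']
        calc h⁻¹ * f * h * rr ε p q * (h⁻¹ * f * h)⁻¹ = h⁻¹ * (f * (h * rr ε p q * h⁻¹) * f⁻¹) * h := by
              group
          _ = rr ε p q := by rw [hf _ hpqS]; group
      have h2 : h⁻¹ * rr ε i j * h = rr ε i j := by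
        have := mem_NN'.mp (inv_mem hh)
        rwa [inv_inv] at this
      have h3 : h⁻¹ * rr ε a c * h = (h⁻¹ * f * h) * rr ε i j * (h⁻¹ * f * h)⁻¹ := by
        rw [← hfr]
        calc h⁻¹ * (f * rr ε i j * f⁻¹) * h = (h⁻¹ * f * h) * (h⁻¹ * rr ε i j * h) * (h⁻¹ * f * h)⁻¹ := by
              group
          _ = _ := by rw [h2]
      rw [h3]
      exact uu_le_BB b hodd hn hpq
        (UU_normal h1 (rr_mem_UU (Ne.symm pi) (Ne.symm qi) (Ne.symm pj) (Ne.symm qj)))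
    have hV : V ≤ (BB V ε).comap (MulAut.conj h⁻¹).toMonoidHom := by
      have hc : ∀ x, (MulAut.conj h⁻¹).toMonoidHom x = h⁻¹ * x * h := by
        intro x
        change h⁻¹ * x * h⁻¹⁻¹ = _
        rw [inv_inv]
      refine v_le_of_zz b.ev fun m => ?_
      obtain ⟨a, c, hac, ⟨am, -, -, -⟩, cm, -, -, -⟩ := exists_off (by omega) m m m m
      refine zz_mem_of_rr b.ev hodd (by omega) hac ?_ ?_ am.symm cm.symm
      · rw [mem_comap, hc]
        exact hr a c hac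
      · intro a' c' hac' _ _ _ _
        rw [mem_comap, hc]
        exact hr a' c' hac'
    have h1 := hV hv
    rw [mem_comap] at h1
    change h⁻¹ * v * h⁻¹⁻¹ ∈ BB V ε at h1
    rwa [inv_inv] at h1

/-- **THEOREM**: `C_G(r_ij) ≤ N_G(V Σ)` -/
theorem nn_le {i j : Fin n} (hij : i ≠ j) : NN ε i j ≤ GG V ε := by
  have hb := b.toBase
  intro h hh
  refine mem_normalizer_of_le fun x hx => ?_
  obtain ⟨v, hv, s, hs, rfl⟩ := (mem_BB hb (by omega)).mp hx
  have h1 := conj_V_le b hodd hn hij (inv_mem hh) hv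
  rw [inv_inv] at h1
  have h2 : h * s * h⁻¹ ∈ BB V ε :=
    uu_le_BB b hodd hn hij (UU_normal hh (hs i j hij))
  have h3 : h * (v * s) * h⁻¹ = (h * v * h⁻¹) * (h * s * h⁻¹) := by group
  rw [h3]
  exact mul_mem h1 h2

/-- `V` and `V^h` commute, `h ∈ C_G(r_ij)` -/
theorem conj_comm {i j : Fin n} (hij : i ≠ j) {h v v' : G} (hh : h ∈ NN ε i j) (hv : v ∈ V)
    (hv' : v' ∈ V) : v * (h * v' * h⁻¹) = (h * v' * h⁻¹) * v :=
  bb_comm b.toBase (by omega) (v_le_BB hv)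
    ((mem_normalizer_iff.mp (nn_le b hodd hn hij hh) v').mp (v_le_BB hv'))

/-- **no T-T pair** -/
theorem false (htt : ∃ i j, i ≠ j ∧ ∃ h ∈ NN ε i j, ∃ v ∈ V, ∃ v' ∈ V,
    v * (h * v' * h⁻¹) ≠ (h * v' * h⁻¹) * v) : False := by
  obtain ⟨i, j, hij, h, hh, v, hv, v', hv', hne⟩ := htt
  exact hne (conj_comm b hodd hn hij hh hv hv')

end

end Cfsg.Agent.Omega.NSix.Free.Plus

end
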